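import Groth.Agent.H8ProCons.Basic
import Groth.Prelude.Def_EGA43

/-!
# Images of pro- and ind-constructible sets

EGA IV 1.9.5, 1.9.9, 1.10.
-/

universe u

open CategoryTheory AlgebraicGeometry Topology TopologicalSpace Set

namespace Groth.Agent.H8ProCons

variable {X Y : Scheme.{u}}

/-- EGA IV 1.9.5 (vii). -/
theorem isProConstructible_image (f : X ⟶ Y) [QuasiCompact f] {E : Set X}
    (hE : ProCons.IsProConstructible E) : ProCons.IsProConstructible (f '' E) := by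
  refine isProConstructible_of_forall_isClosed_cons fun y ↦ ?_
  obtain ⟨_, ⟨W, hW, rfl⟩, hyW, -⟩ :=
    Y.isBasis_affineOpens.exists_subset_of_mem_open (mem_univ y) isOpen_univ
  refine ⟨W, hW, hyW, ?_⟩
  have := quasiSeparatedSpace_of_isAffineOpen hW
  have := compactSpace_opens hW.isCompact
  obtain ⟨σ, hσ, hcov⟩ := (isCompact_and_isOpen_iff_finite_and_eq_biUnion_affineOpens).mp
    ⟨f.isCompact_preimage hW.isCompact, (f ⁻¹ᵁ W).2⟩
  have hle : ∀ k ∈ σ, k.1 ≤ f ⁻¹ᵁ W := fun k hk a ha ↦ hcov.ge (mem_iUnion₂.mpr ⟨k, hk, ha⟩)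
  have := hσ.to_subtype
  let g (k : σ) : ↥(k.1.1 : Set X) → ↥(W : Set Y) := fun a ↦ ⟨f a.1, hle k.1 k.2 a.2⟩
  have hgc : ∀ k, @IsClosed ↥(W : Set Y) (constructibleTopology _)
      (g k '' (Subtype.val ⁻¹' E)) := fun k ↦ by
    have := quasiSeparatedSpace_of_isAffineOpen k.1.2
    have := compactSpace_opens k.1.2.isCompact
    have : IsAffine k.1.1 := k.1.2
    have : IsAffine W := hW
    let gs : (k.1.1 : Scheme) ⟶ W := f.resLE W k.1.1 (hle k.1 k.2)
    have hg : g k = fun a : ↥(k.1.1 : Set X) ↦ (gs a : ↥(W : Set Y)) := funext fun a ↦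
      Subtype.ext (Scheme.Hom.coe_resLE_apply f _ a).symm
    have hcont : @Continuous _ _ (constructibleTopology ↥(k.1.1 : Set X))
        (constructibleTopology ↥(W : Set Y)) (g k) := by
      refine continuous_cons ((f.continuous.comp continuous_subtype_val).subtype_mk _) fun U hU hUc ↦ ?_
      rw [hg]
      exact gs.isCompact_preimage (U := ⟨U, hU⟩) hUc
    exact @IsCompact.isClosed _ (constructibleTopology _) t2Space_cons _
      (@IsCompact.image _ _ (constructibleTopology _) (constructibleTopology _) _ _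
        (isCompact_cons (isClosed_cons_of_isProConstructible hE k.1.2)) hcont)
  have : Subtype.val ⁻¹' (f '' E) = ⋃ k, g k '' (Subtype.val ⁻¹' E) := by
    ext ⟨z, hz⟩
    simp only [mem_preimage, mem_iUnion, mem_image]
    constructor
    · rintro ⟨a, ha, rfl⟩
      obtain ⟨k, hk, hak⟩ := mem_iUnion₂.mp (hcov.le hz)
      exact ⟨⟨k, hk⟩, ⟨a, hak⟩, ha, rfl⟩
    · rintro ⟨k, a, ha, h⟩
      exact ⟨a.1, ha, congrArg Subtype.val h⟩
  rw [this]
  let := constructibleTopology ↥(W : Set Y)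
  exact isClosed_iUnion_of_finite hgc

/-- EGA IV 1.9.5 (viii). -/
theorem isIndConstructible_image (f : X ⟶ Y) [LocallyOfFinitePresentation f] {E : Set X}
    (hE : ProCons.IsIndConstructible E) : ProCons.IsIndConstructible (f '' E) := by
  refine isIndConstructible_of_forall_nhd ?_
  rintro _ ⟨x, hx, rfl⟩
  obtain ⟨_, ⟨W, hW, rfl⟩, hxW, -⟩ :=
    Y.isBasis_affineOpens.exists_subset_of_mem_open (mem_univ (f x)) isOpen_univ
  obtain ⟨_, ⟨V, hV, rfl⟩, hxV, hVW⟩ := X.isBasis_affineOpens.exists_subset_of_mem_open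
    (show x ∈ ((f ⁻¹ᵁ W : X.Opens) : Set X) from hxW) (f ⁻¹ᵁ W).2
  obtain ⟨C, hC, hxC, hCE⟩ := exists_constructible_nhd hE hV hxV hx
  have : IsAffine V := hV
  have : IsAffine W := hW
  let gs : (V : Scheme) ⟶ W := f.resLE W V hVW
  have : LocallyOfFinitePresentation gs := by
    dsimp only [gs, Scheme.Hom.resLE]
    infer_instance
  let g : ↥(V : Set X) → ↥(W : Set Y) := fun a ↦ ⟨f a.1, hVW a.2⟩
  have hg : g = fun a : ↥(V : Set X) ↦ (gs a : ↥(W : Set Y)) := funext fun a ↦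
    Subtype.ext (Scheme.Hom.coe_resLE_apply f _ a).symm
  refine ⟨W, hW, g '' C, ?_, ⟨⟨f x, hxW⟩, ⟨⟨x, hxV⟩, hxC, rfl⟩, rfl⟩, ?_⟩
  · rw [hg]
    exact gs.isConstructible_image hC
  · rintro _ ⟨_, ⟨a, ha, rfl⟩, rfl⟩
    exact ⟨a.1, hCE ha, rfl⟩

/-- EGA IV 1.10.1. -/
theorem mem_interior_iff {E : Set X} (hE : ProCons.IsIndConstructible E) (x : X) :
    x ∈ interior E ↔ ∀ x' : X, x' ⤳ x → x' ∈ E := by
  refine ⟨fun h x' hx' ↦ interior_subset (hx'.mem_open isOpen_interior h), fun h ↦ ?_⟩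
  by_contra hx
  rw [← mem_compl_iff, ← closure_compl] at hx
  obtain ⟨_, ⟨W, hW, rfl⟩, hxW, -⟩ :=
    X.isBasis_affineOpens.exists_subset_of_mem_open (mem_univ x) isOpen_univ
  have := quasiSeparatedSpace_of_isAffineOpen hW
  have := compactSpace_opens hW.isCompact
  have hcl := isClosed_cons_of_isProConstructible (isIndConstructible_iff_compl.mp hE) hW
  have hxc : (⟨x, hxW⟩ : ↥(W : Set X)) ∈ closure (Subtype.val ⁻¹' Eᶜ) := by
    exact (W.2.isOpenEmbedding_subtypeVal.isOpenMap.preimage_closure_eq_closure_preimage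
      continuous_subtype_val Eᶜ).le hx
  obtain ⟨y, hy, hyx⟩ := exists_specializes_of_mem_closure hcl hxc
  exact hy (h y.1 (hyx.map continuous_subtype_val))

/-- An open set is ind-constructible. -/
theorem isIndConstructible_of_isOpen {U : Set X} (hU : IsOpen U) : ProCons.IsIndConstructible U :=
  isIndConstructible_of_forall_isOpen_cons fun x ↦ by
    obtain ⟨_, ⟨W, hW, rfl⟩, hxW, -⟩ :=
      X.isBasis_affineOpens.exists_subset_of_mem_open (mem_univ x) isOpen_univ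
    exact ⟨W, hW, hxW, isOpen_cons_of_isOpen (hU.preimage continuous_subtype_val)⟩

/-- Points are pro-constructible. -/
theorem isProConstructible_singleton (y : X) : ProCons.IsProConstructible {y} :=
  isProConstructible_of_forall_isClosed_cons fun x ↦ by
    obtain ⟨_, ⟨W, hW, rfl⟩, hxW, -⟩ :=
      X.isBasis_affineOpens.exists_subset_of_mem_open (mem_univ x) isOpen_univ
    refine ⟨W, hW, hxW, ?_⟩
    by_cases hy : y ∈ W
    · rw [show (Subtype.val : ↥(W : Set X) → X) ⁻¹' {y} = {⟨y, hy⟩} from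
        Set.ext fun z ↦ by simp [Subtype.ext_iff]]
      exact @isClosed_singleton _ (constructibleTopology _)
        (@T2Space.t1Space _ (constructibleTopology _) t2Space_cons) _
    · rw [show (Subtype.val : ↥(W : Set X) → X) ⁻¹' {y} = ∅ from
        eq_empty_iff_forall_notMem.mpr fun z hz ↦ hy ((mem_singleton_iff.mp hz) ▸ z.2)]
      exact @isClosed_empty _ (constructibleTopology _)

/-- A map open at a point lifts generizations. -/
theorem exists_generization_of_isOpenAt (f : X ⟶ Y) {x : X} (h : EGA43.IsOpenAt f x) {y' : Y}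
    (hy : y' ⤳ f x) : ∃ x' : X, x' ⤳ x ∧ f x' = y' := by
  obtain ⟨_, ⟨V, hV, rfl⟩, hxV, -⟩ :=
    X.isBasis_affineOpens.exists_subset_of_mem_open (mem_univ x) isOpen_univ
  have := quasiSeparatedSpace_of_isAffineOpen hV
  have := compactSpace_opens hV.isCompact
  have hcl := isClosed_cons_of_isProConstructible
    (isProConstructible_preimage f (isProConstructible_singleton y')) hV
  have hxc : (⟨x, hxV⟩ : ↥(V : Set X)) ∈ closure (Subtype.val ⁻¹' (f ⁻¹' {y'})) := by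
    rw [mem_closure_iff]
    intro O hO hxO
    have hn := h (Subtype.val '' O)
      ((V.2.isOpenEmbedding_subtypeVal.isOpenMap O hO).mem_nhds ⟨_, hxO, rfl⟩)
    obtain ⟨U, hU, hUo, hfxU⟩ := _root_.mem_nhds_iff.mp hn
    obtain ⟨_, ⟨a, ha, rfl⟩, he⟩ := hU (hy.mem_open hUo hfxU)
    exact ⟨a, ha, he⟩
  obtain ⟨a, ha, hax⟩ := exists_specializes_of_mem_closure hcl hxc
  exact ⟨a.1, hax.map continuous_subtype_val, ha⟩

/-- EGA IV 1.10.3. -/
theorem isOpenAt_of_generizations (f : X ⟶ Y) [LocallyOfFinitePresentation f] {x : X}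
    (h : ∀ y' : Y, y' ⤳ f x → ∃ x' : X, x' ⤳ x ∧ f x' = y') : EGA43.IsOpenAt f x := by
  intro N hN
  obtain ⟨O, hON, hO, hxO⟩ := _root_.mem_nhds_iff.mp hN
  refine Filter.mem_of_superset (mem_interior_iff_mem_nhds.mp ?_) (image_mono hON)
  refine (mem_interior_iff (isIndConstructible_image f (isIndConstructible_of_isOpen hO)) _).mpr
    fun y' hy' ↦ ?_
  obtain ⟨x', hx', rfl⟩ := h y' hy'
  exact ⟨x', hx'.mem_open hO hxO, rfl⟩

/-- EGA IV 1.9.9. -/
theorem exists_finite_iInter_subset [CompactSpace X] {E : Set X}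
    (hE : ProCons.IsIndConstructible E) {ι : Type u} (F : ι → Set X)
    (hF : ∀ i, ProCons.IsProConstructible (F i)) (h : ⋂ i, F i ⊆ E) :
    ∃ J : Finset ι, ⋂ i ∈ J, F i ⊆ E := by
  classical
  obtain ⟨σ, hσ, hcov⟩ :=
    (isCompact_and_isOpen_iff_finite_and_eq_biUnion_affineOpens (U := (univ : Set X))).mp
      ⟨isCompact_univ, isOpen_univ⟩
  have key : ∀ k : X.affineOpens, ∃ J : Finset ι,
      ((k.1 : Set X) ∩ ⋂ i ∈ J, F i) ⊆ E := by
    intro k
    have := quasiSeparatedSpace_of_isAffineOpen k.2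
    have := compactSpace_opens k.2.isCompact
    obtain ⟨J, hJ⟩ := @IsCompact.elim_finite_subfamily_closed _ (constructibleTopology _)
      ((Subtype.val : ↥(k.1 : Set X) → X) ⁻¹' Eᶜ) ι
      (isCompact_cons (isClosed_cons_of_isProConstructible (isIndConstructible_iff_compl.mp hE) k.2))
      (fun i ↦ Subtype.val ⁻¹' F i) (fun i ↦ isClosed_cons_of_isProConstructible (hF i) k.2)
      (eq_empty_iff_forall_notMem.mpr fun z hz ↦
        hz.1 (h (mem_iInter.mpr fun i ↦ (mem_iInter.mp hz.2 i))))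
    refine ⟨J, fun z hz ↦ by_contra fun hzE ↦ ?_⟩
    exact eq_empty_iff_forall_notMem.mp hJ ⟨z, hz.1⟩
      ⟨hzE, mem_iInter₂.mpr fun i hi ↦ (mem_iInter₂.mp hz.2 i hi)⟩
  choose J hJ using key
  refine ⟨hσ.toFinset.biUnion J, fun z hz ↦ ?_⟩
  obtain ⟨k, hk, hzk⟩ := mem_iUnion₂.mp (hcov.le (mem_univ z))
  exact hJ k ⟨hzk, mem_iInter₂.mpr fun i hi ↦
    mem_iInter₂.mp hz i (Finset.mem_biUnion.mpr ⟨k, hσ.mem_toFinset.mpr hk, hi⟩)⟩

/-- EGA IV 1.9.6 (necessity): an ind-constructible set is a neighbourhood of its points in their closures. -/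
theorem exists_open_inter_closure_subset {E : Set X} (hE : ProCons.IsIndConstructible E) {x : X}
    (hx : x ∈ E) : ∃ O : Set X, IsOpen O ∧ x ∈ O ∧ O ∩ closure {x} ⊆ E := by
  obtain ⟨_, ⟨W, hW, rfl⟩, hxW, -⟩ :=
    X.isBasis_affineOpens.exists_subset_of_mem_open (mem_univ x) isOpen_univ
  obtain ⟨C, hC, hxC, hCE⟩ := exists_constructible_nhd hE hW hxW hx
  let z : ↥(W : Set X) := ⟨x, hxW⟩
  have key : (z ∈ C → ∃ O, IsOpen O ∧ z ∈ O ∧ O ∩ closure {z} ⊆ C) ∧
      (z ∈ Cᶜ → ∃ O, IsOpen O ∧ z ∈ O ∧ O ∩ closure {z} ⊆ Cᶜ) := by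
    clear hxC hCE
    induction hC using IsConstructible.empty_union_induction with
    | open_retrocompact U hU hr =>
      refine ⟨fun h ↦ ⟨U, hU, h, inter_subset_left⟩, fun h ↦ ⟨univ, isOpen_univ, trivial, ?_⟩⟩
      rw [univ_inter]
      exact hU.isClosed_compl.closure_subset_iff.mpr (singleton_subset_iff.mpr h)
    | union s hs t ht h h' =>
      refine ⟨fun hz ↦ ?_, fun hz ↦ ?_⟩
      · rcases hz with hz | hz
        · obtain ⟨O, h1, h2, h3⟩ := h.1 hz
          exact ⟨O, h1, h2, h3.trans subset_union_left⟩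
        · obtain ⟨O, h1, h2, h3⟩ := h'.1 hz
          exact ⟨O, h1, h2, h3.trans subset_union_right⟩
      · rw [compl_union] at hz ⊢
        obtain ⟨O, h1, h2, h3⟩ := h.2 hz.1
        obtain ⟨O', h1', h2', h3'⟩ := h'.2 hz.2
        exact ⟨O ∩ O', h1.inter h1', ⟨h2, h2'⟩,
          fun y hy ↦ ⟨h3 ⟨hy.1.1, hy.2⟩, h3' ⟨hy.1.2, hy.2⟩⟩⟩
    | compl s hs h => exact ⟨h.2, by rw [compl_compl]; exact h.1⟩
  obtain ⟨O, hO, hzO, hOC⟩ := key.1 hxC
  refine ⟨Subtype.val '' O, W.2.isOpenEmbedding_subtypeVal.isOpenMap O hO, ⟨z, hzO, rfl⟩, ?_⟩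
  rintro _ ⟨⟨y, hy, rfl⟩, hyx⟩
  refine hCE (hOC ⟨hy, ?_⟩)
  rw [← specializes_iff_mem_closure] at hyx ⊢
  exact W.2.isOpenEmbedding_subtypeVal.isInducing.specializes_iff.mp hyx

end Groth.Agent.H8ProCons
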