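import Mathlib.RingTheory.AlgebraicIndependent.Adjoin
import Mathlib.RingTheory.AlgebraicIndependent.TranscendenceBasis
import Mathlib.FieldTheory.IsAlgClosed.AlgebraicClosure

/-!
# A common extension of a family of field extensions
-/

universe u

open MvPolynomial

namespace Groth.Agent.H8ProCons

lemma exists_algHom_of_algebraicIndependent {κ K Ω : Type u} [Field κ] [Field K] [Field Ω]
    [IsAlgClosed Ω] [Algebra κ K] [Algebra κ Ω] {s : Set K}
    (hs : IsTranscendenceBasis κ ((↑) : s → K)) {y : s → Ω} (hy : AlgebraicIndependent κ y) :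
    Nonempty (K →ₐ[κ] Ω) := by
  let L := IntermediateField.adjoin κ (Set.range ((↑) : s → K))
  let e : L →ₐ[κ] Ω :=
    (IntermediateField.val _).comp
      ((hy.aevalEquivField.toAlgHom).comp hs.1.aevalEquivField.symm.toAlgHom)
  let : Algebra L Ω := e.toRingHom.toAlgebra
  have : IsScalarTower κ L Ω := IsScalarTower.of_algebraMap_eq fun x ↦ (e.commutes x).symm
  have : Algebra.IsAlgebraic L K := hs.isAlgebraic_field
  exact ⟨(IsAlgClosed.lift (R := L) (S := K) (M := Ω)).restrictScalars κ⟩

lemma exists_algHom_of_injective {κ K Ω : Type u} [Field κ] [Field K] [Field Ω] [IsAlgClosed Ω]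
    [Algebra κ K] [Algebra κ Ω] {V : Type u} (φ : MvPolynomial V κ →ₐ[κ] Ω)
    (hφ : Function.Injective φ) (v : K → V) (hv : Function.Injective v) :
    Nonempty (K →ₐ[κ] Ω) := by
  obtain ⟨s, hs⟩ := exists_isTranscendenceBasis κ K
  exact exists_algHom_of_algebraicIndependent hs
    (((MvPolynomial.algebraicIndependent_X V κ).comp (fun a : s ↦ v a.1)
      (hv.comp Subtype.val_injective)).map' hφ)

/-- Any family of extensions of a field embeds in a common algebraically closed extension. -/
theorem exists_common_field {κ : Type u} [Field κ] {ι : Type u} (K : ι → Type u) [∀ i, Field (K i)]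
    [∀ i, Algebra κ (K i)] :
    ∃ (Ω : Type u) (_ : Field Ω) (_ : IsAlgClosed Ω) (_ : Algebra κ Ω),
      ∀ i, Nonempty (K i →ₐ[κ] Ω) := by
  let P := MvPolynomial (Σ i, K i) κ
  let ψ : P →+* AlgebraicClosure (FractionRing P) :=
    (algebraMap (FractionRing P) _).comp (algebraMap P (FractionRing P))
  let : Algebra κ (AlgebraicClosure (FractionRing P)) := (ψ.comp (C : κ →+* P)).toAlgebra
  refine ⟨AlgebraicClosure (FractionRing P), inferInstance, inferInstance, this, fun i ↦ ?_⟩
  exact exists_algHom_of_injective ({ ψ with commutes' := fun _ ↦ rfl } : P →ₐ[κ] _)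
    ((algebraMap (FractionRing P) (AlgebraicClosure (FractionRing P))).injective.comp
      (IsFractionRing.injective P (FractionRing P)))
    (fun a ↦ (⟨i, a⟩ : Σ i, K i)) sigma_mk_injective

end Groth.Agent.H8ProCons
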