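import Mathlib.Algebra.Category.Ring.Colimits
import Mathlib.CategoryTheory.Limits.Shapes.WidePullbacks
import Mathlib.RingTheory.LocalRing.ResidueField.Ideal
import Mathlib.RingTheory.Spectrum.Prime.ConstructibleSet
import Mathlib.RingTheory.Spectrum.Prime.Topology
import Groth.Agent.H8ProCons.CommonField

/-!
# Intersections of images of spectra are images of spectra
-/

universe u

open CategoryTheory Limits Topology

namespace Groth.Agent.H8ProCons

/-- The intersection of the images of a family `Spec B_i → Spec A` is the image of the coproduct. -/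
theorem range_comap_widePushout {A : CommRingCat.{u}} {ι : Type u} (B : ι → CommRingCat.{u})
    (f : ∀ i, A ⟶ B i) :
    Set.range (PrimeSpectrum.comap (WidePushout.head (B := A) (objs := B) f).hom) =
      ⋂ i, Set.range (PrimeSpectrum.comap (f i).hom) := by
  ext p
  simp only [Set.mem_iInter, Set.mem_range]
  refine ⟨fun ⟨q, hq⟩ i ↦ ⟨PrimeSpectrum.comap (WidePushout.ι f i).hom q, ?_⟩, fun h ↦ ?_⟩
  · rw [← hq, ← PrimeSpectrum.comap_comp_apply, ← CommRingCat.hom_comp, WidePushout.arrow_ι]
  · choose q hq using h
    have hq' : ∀ i, p.asIdeal = (q i).asIdeal.comap (f i).hom := fun i ↦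
      congrArg PrimeSpectrum.asIdeal (hq i).symm
    let : ∀ i, Algebra p.asIdeal.ResidueField (q i).asIdeal.ResidueField := fun i ↦
      (Ideal.ResidueField.map p.asIdeal (q i).asIdeal (f i).hom (hq' i)).toAlgebra
    obtain ⟨Ω, _, _, _, he⟩ := exists_common_field (κ := p.asIdeal.ResidueField)
      fun i ↦ (q i).asIdeal.ResidueField
    let e (i : ι) := (he i).some
    let φ : A ⟶ CommRingCat.of Ω := CommRingCat.ofHom
      ((algebraMap p.asIdeal.ResidueField Ω).comp (algebraMap A p.asIdeal.ResidueField))
    let fs (i : ι) : B i ⟶ CommRingCat.of Ω := CommRingCat.ofHom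
      ((e i).toRingHom.comp (algebraMap (B i) (q i).asIdeal.ResidueField))
    have hfs : ∀ i, f i ≫ fs i = φ := fun i ↦ by
      ext r
      change e i (algebraMap _ _ ((f i).hom r)) = algebraMap p.asIdeal.ResidueField Ω _
      rw [← Ideal.ResidueField.map_algebraMap p.asIdeal (q i).asIdeal (f i).hom (hq' i) r]
      exact (e i).commutes _
    let d := WidePushout.desc (arrows := f) φ fs hfs
    refine ⟨PrimeSpectrum.comap d.hom ⟨⊥, Ideal.isPrime_bot⟩, PrimeSpectrum.ext ?_⟩
    rw [← PrimeSpectrum.comap_comp_apply, ← CommRingCat.hom_comp, WidePushout.head_desc]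
    change Ideal.comap ((algebraMap p.asIdeal.ResidueField Ω).comp _) ⊥ = _
    rw [← Ideal.comap_comap, Ideal.comap_bot_of_injective _ (algebraMap p.asIdeal.ResidueField Ω).injective,
      ← RingHom.ker_eq_comap_bot, Ideal.ker_algebraMap_residueField]

/-- An intersection of constructible subsets of a spectrum is the image of a spectrum. -/
theorem exists_range_eq_sInter {A : Type u} [CommRing A] (S : Set (Set (PrimeSpectrum A)))
    (hS : ∀ s ∈ S, IsConstructible s) :
    ∃ (B : Type u) (_ : CommRing B) (f : A →+* B), Set.range (PrimeSpectrum.comap f) = ⋂₀ S := by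
  choose B hB f hf using fun s : S ↦
    PrimeSpectrum.exists_range_eq_of_isConstructible (hS s.1 s.2)
  refine ⟨_, inferInstance, (WidePushout.head (B := CommRingCat.of A)
    (objs := fun s : S ↦ CommRingCat.of (B s)) (fun s ↦ CommRingCat.ofHom (f s))).hom, ?_⟩
  rw [range_comap_widePushout, Set.sInter_eq_iInter]
  exact Set.iInter_congr hf

end Groth.Agent.H8ProCons
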