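import Mathlib.AlgebraicGeometry.Limits
import Groth.Agent.H8ProCons.Image
import Groth.Agent.H8ProCons.RangeExists

/-!
# Pro-constructible subsets of quasi-compact quasi-separated schemes

EGA IV 1.9.5 (ix).
-/

universe u

open CategoryTheory AlgebraicGeometry Topology TopologicalSpace Set

namespace Groth.Agent.H8ProCons

variable {X : Scheme.{u}} [QuasiSeparatedSpace X]

/-- On a quasi-separated scheme the ind-constructible sets are the cons-open ones. -/
theorem isOpen_cons_iff_isIndConstructible [CompactSpace X] {E : Set X} :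
    IsOpen[constructibleTopology X] E ↔ ProCons.IsIndConstructible E := by
  refine ⟨fun h ↦ isIndConstructible_of_forall_nhd fun x hx ↦ ?_, fun h ↦ ?_⟩
  · obtain ⟨C, hC, hxC, hCE⟩ := exists_isConstructible_subset h hx
    obtain ⟨_, ⟨W, hW, rfl⟩, hxW, -⟩ :=
      X.isBasis_affineOpens.exists_subset_of_mem_open (mem_univ x) isOpen_univ
    exact ⟨W, hW, Subtype.val ⁻¹' C,
      hC.preimage_of_isOpenEmbedding W.2.isOpenEmbedding_subtypeVal, ⟨⟨x, hxW⟩, hxC, rfl⟩,
      image_subset_iff.mpr (preimage_mono hCE)⟩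
  · refine (@isOpen_iff_forall_mem_open X (constructibleTopology X) _).mpr fun x hx ↦ ?_
    obtain ⟨_, ⟨W, hW, rfl⟩, hxW, -⟩ :=
      X.isBasis_affineOpens.exists_subset_of_mem_open (mem_univ x) isOpen_univ
    obtain ⟨C, hC, hxC, hCE⟩ := exists_constructible_nhd h hW hxW hx
    refine ⟨Subtype.val '' C, image_subset_iff.mpr hCE, isOpen_cons_of_isConstructible
      (hC.image_of_isOpenEmbedding W.2.isOpenEmbedding_subtypeVal ?_), ⟨⟨x, hxW⟩, hxC, rfl⟩⟩
    rw [Subtype.range_coe]
    exact hW.isCompact.isRetrocompact W.2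

/-- A pro-constructible set of a qcqs scheme is an intersection of constructible sets. -/
theorem exists_eq_sInter_of_isProConstructible [CompactSpace X] {E : Set X}
    (hE : ProCons.IsProConstructible E) :
    ∃ S : Set (Set X), (∀ s ∈ S, IsConstructible s) ∧ E = ⋂₀ S := by
  refine ⟨{s | IsConstructible s ∧ E ⊆ s}, fun s hs ↦ hs.1,
    subset_antisymm (subset_sInter fun s hs ↦ hs.2) fun x hx ↦ by_contra fun hxE ↦ ?_⟩
  obtain ⟨C, hC, hxC, hCE⟩ := exists_isConstructible_subset
    (isOpen_cons_iff_isIndConstructible.mpr (isProConstructible_iff_compl.mp hE)) hxE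
  exact mem_sInter.mp hx Cᶜ ⟨hC.compl, subset_compl_comm.mp hCE⟩ hxC

omit [QuasiSeparatedSpace X] in
/-- An intersection of constructible sets is pro-constructible. -/
theorem isProConstructible_sInter {S : Set (Set X)} (hS : ∀ s ∈ S, IsConstructible s) :
    ProCons.IsProConstructible (⋂₀ S) := fun x ↦
  ⟨univ, isOpen_univ, trivial, preimage Subtype.val '' S, fun T ⟨s, hs, hT⟩ ↦ hT ▸
    ((hS s hs).preimage_of_isOpenEmbedding
      isOpen_univ.isOpenEmbedding_subtypeVal).isLocallyConstructible,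
    by simp [preimage_sInter, sInter_image]⟩

/-- An intersection of constructible sets is the image of an affine scheme. -/
theorem exists_isAffine_range_eq [CompactSpace X] {S : Set (Set X)}
    (hS : ∀ s ∈ S, IsConstructible s) :
    ∃ (X' : Scheme.{u}) (f : X' ⟶ X), IsAffine X' ∧ QuasiCompact f ∧ range f.base = ⋂₀ S := by
  let 𝒰 := X.affineCover.finiteSubcover
  have : ∀ k, IsAffine (𝒰.X k) := fun k ↦ inferInstanceAs (IsAffine (Spec _))
  let p : (∐ 𝒰.X) ⟶ X := Limits.Sigma.desc 𝒰.f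
  have hp : Function.Surjective p := fun x ↦ by
    obtain ⟨k, y, rfl⟩ := 𝒰.exists_eq x
    exact ⟨Limits.Sigma.ι 𝒰.X k y, by
      rw [← Scheme.Hom.comp_apply, Limits.Sigma.ι_desc]⟩
  let X₀ := ∐ 𝒰.X
  let q : Spec Γ(X₀, ⊤) ⟶ X := X₀.isoSpec.inv ≫ p
  have hq : Function.Surjective q := fun x ↦ by
    obtain ⟨y, rfl⟩ := hp x
    exact ⟨X₀.isoSpec.hom y, by simp [q, ← Scheme.Hom.comp_apply]⟩
  obtain ⟨B, _, g, hg⟩ := exists_range_eq_sInter (A := Γ(X₀, ⊤)) (preimage q '' S) (by
    rintro _ ⟨s, hs, rfl⟩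
    exact q.isConstructible_preimage (hS s hs))
  refine ⟨Spec (.of B), Spec.map (CommRingCat.ofHom g) ≫ q, inferInstance,
    quasiCompact_of_compactSpace _, ?_⟩
  have hg' : range (Spec.map (CommRingCat.ofHom g)) = q ⁻¹' ⋂₀ S := by
    rw [preimage_sInter, ← sInter_image]
    exact hg
  rw [Scheme.Hom.comp_base, TopCat.coe_comp, range_comp, hg', image_preimage_eq _ hq]

end Groth.Agent.H8ProCons
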