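import Mathlib.Topology.Spectral.ConstructibleTopology
import Mathlib.Topology.Constructible
import Mathlib.Topology.Connected.TotallyDisconnected
import Mathlib.Topology.Maps.Proper.CompactlyGenerated

/-!
# The constructible topology of a quasi-separated prespectral space

Stacks 0901: compact open sets and constructible sets are clopen, constructible sets form a basis,
the space is totally separated, compact when `X` is spectral.
-/

open Topology TopologicalSpace Set

namespace Groth.Agent.H8ProCons

variable {X Y : Type*} [TopologicalSpace X] [TopologicalSpace Y]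

lemma isOpen_cons_of_isOpen [PrespectralSpace X] {U : Set X} (hU : IsOpen U) :
    IsOpen[constructibleTopology X] U := by
  obtain ⟨S, hS, rfl⟩ := PrespectralSpace.isTopologicalBasis.open_eq_sUnion hU
  exact @isOpen_sUnion X (constructibleTopology X) _
    fun V hV ↦ (hS hV).2.isOpen_constructibleTopology_of_isOpen (hS hV).1

lemma isOpen_cons_compl_of_isCompact {U : Set X} (hU : IsOpen U) (hc : IsCompact U) :
    IsOpen[constructibleTopology X] Uᶜ :=
  IsCompact.isOpen_constructibleTopology_of_isClosed (by rwa [compl_compl]) hU.isClosed_compl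

variable [PrespectralSpace X] [QuasiSeparatedSpace X]

omit [QuasiSeparatedSpace X] in
/-- A retrocompact open is clopen in the constructible topology. -/
lemma isOpen_cons_compl_of_isRetrocompact {U : Set X} (hU : IsOpen U) (hr : IsRetrocompact U) :
    IsOpen[constructibleTopology X] Uᶜ := by
  refine (@isOpen_iff_forall_mem_open X (constructibleTopology X) _).mpr fun x hx ↦ ?_
  obtain ⟨V, ⟨hV, hVc⟩, hxV, -⟩ :=
    PrespectralSpace.isTopologicalBasis.exists_subset_of_mem_open (mem_univ x) isOpen_univ
  exact ⟨V ∩ (U ∩ V)ᶜ, fun y hy hyU ↦ hy.2 ⟨hyU, hy.1⟩,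
    @IsOpen.inter X (constructibleTopology X) _ _ (hVc.isOpen_constructibleTopology_of_isOpen hV)
      (isOpen_cons_compl_of_isCompact (hU.inter hV) (hr hVc hV)),
    hxV, fun h ↦ hx h.1⟩

omit [QuasiSeparatedSpace X] in
lemma isOpen_cons_and_compl_of_isConstructible {C : Set X} (hC : IsConstructible C) :
    IsOpen[constructibleTopology X] C ∧ IsOpen[constructibleTopology X] Cᶜ := by
  induction hC using IsConstructible.empty_union_induction with
  | open_retrocompact U hU hr =>
    exact ⟨isOpen_cons_of_isOpen hU, isOpen_cons_compl_of_isRetrocompact hU hr⟩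
  | union s hs t ht h h' =>
    refine ⟨@IsOpen.union X _ _ (constructibleTopology X) h.1 h'.1, ?_⟩
    rw [compl_union]
    exact @IsOpen.inter X (constructibleTopology X) _ _ h.2 h'.2
  | compl s hs h => exact ⟨h.2, by rw [compl_compl]; exact h.1⟩

/-- A constructible set is clopen in the constructible topology. -/
theorem isOpen_cons_of_isConstructible {C : Set X} (hC : IsConstructible C) :
    IsOpen[constructibleTopology X] C :=
  (isOpen_cons_and_compl_of_isConstructible hC).1

theorem isClosed_cons_of_isConstructible {C : Set X} (hC : IsConstructible C) :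
    IsClosed[constructibleTopology X] C :=
  (@isOpen_compl_iff X C (constructibleTopology X)).mp (isOpen_cons_and_compl_of_isConstructible hC).2

theorem isOpen_cons_of_isLocallyConstructible {E : Set X} (hE : IsLocallyConstructible E) :
    IsOpen[constructibleTopology X] E := by
  refine (@isOpen_iff_forall_mem_open X (constructibleTopology X) _).mpr fun x hx ↦ ?_
  obtain ⟨V, ⟨hV, hVc⟩, hxV, -⟩ :=
    PrespectralSpace.isTopologicalBasis.exists_subset_of_mem_open (mem_univ x) isOpen_univ
  exact ⟨E ∩ V, inter_subset_left,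
    isOpen_cons_of_isConstructible (hE.inter_of_isOpen_isCompact hV hVc), hx, hxV⟩

omit [PrespectralSpace X] in
/-- Constructible sets form a basis of the constructible topology. -/
theorem exists_isConstructible_subset [CompactSpace X] {E : Set X}
    (hE : IsOpen[constructibleTopology X] E) {x : X} (hx : x ∈ E) :
    ∃ C, IsConstructible C ∧ x ∈ C ∧ C ⊆ E := by
  induction hE with
  | basic s hs =>
    refine ⟨s, ?_, hx, subset_rfl⟩
    rcases hs with ⟨ho, hc⟩ | ⟨hcl, hc⟩
    · exact hc.isConstructible ho
    · exact isConstructible_compl.mp (hc.isConstructible hcl.isOpen_compl)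
  | univ => exact ⟨univ, .univ, hx, subset_rfl⟩
  | inter s t hs ht ihs iht =>
    obtain ⟨C, hC, hxC, hCs⟩ := ihs hx.1
    obtain ⟨C', hC', hxC', hCt⟩ := iht hx.2
    exact ⟨C ∩ C', hC.inter hC', ⟨hxC, hxC'⟩, inter_subset_inter hCs hCt⟩
  | sUnion S hS ih =>
    obtain ⟨s, hs, hxs⟩ := hx
    obtain ⟨C, hC, hxC, hCs⟩ := ih s hs hxs
    exact ⟨C, hC, hxC, subset_sUnion_of_subset S s hCs hs⟩

theorem isCompact_cons [CompactSpace X] [QuasiSober X] {E : Set X}
    (hE : IsClosed[constructibleTopology X] E) : @IsCompact X (constructibleTopology X) E := by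
  have h := @IsCompact.image (WithConstructibleTopology X) X _ (constructibleTopology X) univ _
    isCompact_univ (WithTopology.continuous_ofTopology (constructibleTopology X))
  rw [Set.image_univ_of_surjective
    (WithTopology.ofTopology_surjective (t := constructibleTopology X))] at h
  exact @IsCompact.of_isClosed_subset X (constructibleTopology X) univ E h hE (subset_univ E)

/-- A set is constructible iff it is clopen in the constructible topology. -/
theorem isConstructible_iff_clopen_cons [CompactSpace X] [QuasiSober X] {E : Set X} :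
    IsConstructible E ↔
      IsOpen[constructibleTopology X] E ∧ IsClosed[constructibleTopology X] E := by
  refine ⟨fun h ↦ ⟨isOpen_cons_of_isConstructible h, isClosed_cons_of_isConstructible h⟩,
    fun ⟨ho, hc⟩ ↦ ?_⟩
  choose C hC hmem hsub using fun x : E ↦ exists_isConstructible_subset ho x.2
  obtain ⟨σ, hσ⟩ := @IsCompact.elim_finite_subcover X (constructibleTopology X) E E
    (isCompact_cons hc) C (fun x ↦ isOpen_cons_of_isConstructible (hC x))
    (fun x hx ↦ mem_iUnion.mpr ⟨⟨x, hx⟩, hmem ⟨x, hx⟩⟩)
  have : E = ⋃ x ∈ σ, C x :=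
    subset_antisymm hσ (iUnion₂_subset fun x _ ↦ hsub x)
  rw [this]
  exact IsConstructible.biUnion σ.finite_toSet fun x _ ↦ hC x

omit [QuasiSeparatedSpace X] in
/-- Distinct points are separated by a clopen set. -/
theorem exists_clopen_separating [T0Space X] {x y : X} (h : x ≠ y) :
    ∃ U : Set X, IsOpen[constructibleTopology X] U ∧ IsOpen[constructibleTopology X] Uᶜ ∧
      x ∈ U ∧ y ∉ U := by
  obtain ⟨W, hW, hxy⟩ := exists_isOpen_xor_mem h
  rcases hxy with ⟨hx, hy⟩ | ⟨hy, hx⟩
  · obtain ⟨V, ⟨hV, hVc⟩, hxV, hVW⟩ :=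
      PrespectralSpace.isTopologicalBasis.exists_subset_of_mem_open hx hW
    exact ⟨V, hVc.isOpen_constructibleTopology_of_isOpen hV, isOpen_cons_compl_of_isCompact hV hVc,
      hxV, fun h ↦ hy (hVW h)⟩
  · obtain ⟨V, ⟨hV, hVc⟩, hyV, hVW⟩ :=
      PrespectralSpace.isTopologicalBasis.exists_subset_of_mem_open hy hW
    exact ⟨Vᶜ, isOpen_cons_compl_of_isCompact hV hVc,
      by rw [compl_compl]; exact hVc.isOpen_constructibleTopology_of_isOpen hV,
      fun h ↦ hx (hVW h), fun h ↦ h hyV⟩

omit [QuasiSeparatedSpace X] in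
theorem t2Space_cons [T0Space X] : @T2Space X (constructibleTopology X) :=
  @T2Space.mk X (constructibleTopology X) fun x y h ↦ by
    obtain ⟨U, hU, hU', hx, hy⟩ := exists_clopen_separating h
    exact ⟨U, Uᶜ, hU, hU', hx, hy, disjoint_compl_right⟩

omit [PrespectralSpace X] [QuasiSeparatedSpace X] in
/-- A map with compact preimages of compact opens is continuous for the constructible topologies. -/
theorem continuous_cons {f : Y → X} (hf : Continuous f)
    (hf' : ∀ U : Set X, IsOpen U → IsCompact U → IsCompact (f ⁻¹' U)) :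
    @Continuous Y X (constructibleTopology Y) (constructibleTopology X) f := by
  refine continuous_generateFrom_iff.mpr ?_
  rintro s (⟨ho, hc⟩ | ⟨hcl, hc⟩)
  · exact (hf' s ho hc).isOpen_constructibleTopology_of_isOpen (ho.preimage hf)
  · exact IsCompact.isOpen_constructibleTopology_of_isClosed
      (hf' _ hcl.isOpen_compl hc) (hcl.preimage hf)

omit [QuasiSeparatedSpace X] in
/-- A constructible-closed set has as closure its set of specializations. -/
theorem exists_specializes_of_mem_closure [CompactSpace X] [QuasiSober X] [QuasiSeparatedSpace X]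
    {E : Set X} (hE : IsClosed[constructibleTopology X] E) {x : X} (hx : x ∈ closure E) :
    ∃ y ∈ E, y ⤳ x := by
  let ι := {U : Set X // IsOpen U ∧ IsCompact U ∧ x ∈ U}
  have hne : (E ∩ ⋂ U : ι, U.1).Nonempty := by
    refine @IsCompact.inter_iInter_nonempty X (constructibleTopology X) E ι (isCompact_cons hE)
      (fun U ↦ U.1) (fun U ↦ (@isOpen_compl_iff X _ (constructibleTopology X)).mp
        (isOpen_cons_compl_of_isCompact U.2.1 U.2.2.1)) fun u ↦ ?_
    have ho : IsOpen (⋂ U ∈ u, U.1) := isOpen_biInter_finset fun U _ ↦ U.2.1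
    obtain ⟨y, hy, hyE⟩ := mem_closure_iff.mp hx _ ho (mem_iInter₂.mpr fun U _ ↦ U.2.2.2)
    exact ⟨y, hyE, hy⟩
  obtain ⟨y, hyE, hy⟩ := hne
  refine ⟨y, hyE, specializes_iff_forall_open.mpr fun U hU hxU ↦ ?_⟩
  obtain ⟨V, ⟨hV, hVc⟩, hxV, hVU⟩ :=
    PrespectralSpace.isTopologicalBasis.exists_subset_of_mem_open hxU hU
  exact hVU (mem_iInter.mp hy ⟨V, hV, hVc, hxV⟩)

end Groth.Agent.H8ProCons
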