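import Mathlib.AlgebraicGeometry.Morphisms.FinitePresentation
import Mathlib.AlgebraicGeometry.Properties
import Groth.Prelude.Def_ProCons
import Groth.Agent.H8ProCons.ConsTopology

/-!
# Pro- and ind-constructible subsets of schemes

EGA IV 1.9.
-/

universe u

open CategoryTheory AlgebraicGeometry Topology TopologicalSpace Set

namespace Groth.Agent.H8ProCons

/-- Complements exchange pro- and ind-constructible sets. -/
theorem isProConstructible_iff_compl {X : Type*} [TopologicalSpace X] {E : Set X} :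
    ProCons.IsProConstructible E ↔ ProCons.IsIndConstructible Eᶜ := by
  constructor <;> intro h x <;> obtain ⟨U, hU, hxU, S, hS, he⟩ := h x <;>
    refine ⟨U, hU, hxU, compl '' S, ?_, ?_⟩
  · rintro _ ⟨T, hT, rfl⟩
    exact fun y ↦ (hS T hT y).imp fun V hV ↦ ⟨hV.1, hV.2.1, hV.2.2.compl⟩
  · rw [preimage_compl, he, compl_sInter]
  · rintro _ ⟨T, hT, rfl⟩
    exact fun y ↦ (hS T hT y).imp fun V hV ↦ ⟨hV.1, hV.2.1, hV.2.2.compl⟩
  · rw [← compl_inj_iff, ← preimage_compl, he, compl_sInter, ← image_comp]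
    simp [compl_compl_image]

theorem isIndConstructible_iff_compl {X : Type*} [TopologicalSpace X] {E : Set X} :
    ProCons.IsIndConstructible E ↔ ProCons.IsProConstructible Eᶜ := by
  rw [isProConstructible_iff_compl, compl_compl]

variable {X : Scheme.{u}}

lemma compactSpace_opens {V : X.Opens} (hV : IsCompact (V : Set X)) : CompactSpace (V : Set X) :=
  isCompact_iff_compactSpace.mp hV

instance (U : X.Opens) : PrespectralSpace (U : Set X) :=
  inferInstanceAs (PrespectralSpace (U : Scheme))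

instance (U : X.Opens) : QuasiSober (U : Set X) :=
  inferInstanceAs (QuasiSober (U : Scheme))

instance (U : X.Opens) : T0Space (U : Set X) :=
  inferInstanceAs (T0Space (U : Scheme))

/-- Pushing a constructible subset of a compact open forward to a larger quasi-separated open. -/
lemma isConstructible_image_inclusion {V W : X.Opens} (h : (V : Set X) ⊆ W)
    (hV : IsCompact (V : Set X)) [QuasiSeparatedSpace (W : Set X)] {C : Set (V : Set X)}
    (hC : IsConstructible C) : IsConstructible (Set.inclusion h '' C) := by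
  have hemb : IsOpenEmbedding (Set.inclusion h) :=
    IsOpenEmbedding.inclusion h (V.2.preimage continuous_subtype_val)
  have := compactSpace_opens hV
  exact hC.image_of_isOpenEmbedding hemb
    ((isCompact_range hemb.continuous).isRetrocompact hemb.isOpen_range)

lemma quasiSeparatedSpace_of_isAffineOpen {V : X.Opens} (hV : IsAffineOpen V) :
    QuasiSeparatedSpace (V : Set X) :=
  (isQuasiSeparated_iff_quasiSeparatedSpace _ V.2).mp hV.isQuasiSeparated

/-- Criterion for ind-constructibility. -/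
theorem isIndConstructible_of_forall_nhd {E : Set X}
    (h : ∀ x ∈ E, ∃ V : X.Opens, IsAffineOpen V ∧ ∃ C : Set (V : Set X), IsConstructible C ∧
      x ∈ Subtype.val '' C ∧ Subtype.val '' C ⊆ E) : ProCons.IsIndConstructible E := by
  intro x
  obtain ⟨_, ⟨W, hW, rfl⟩, hxW, -⟩ :=
    X.isBasis_affineOpens.exists_subset_of_mem_open (mem_univ x) isOpen_univ
  refine ⟨W, W.2, hxW, {T | IsLocallyConstructible T ∧ T ⊆ Subtype.val ⁻¹' E},
    fun T hT ↦ hT.1, subset_antisymm (fun y hy ↦ ?_) (sUnion_subset fun T hT ↦ hT.2)⟩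
  obtain ⟨V, hV, C, hC, ⟨z, hz, hzy⟩, hCE⟩ := h y.1 hy
  obtain ⟨_, ⟨V', hV', rfl⟩, hyV', hV'le⟩ := X.isBasis_affineOpens.exists_subset_of_mem_open
    (show y.1 ∈ ((V ⊓ W : X.Opens) : Set X) from ⟨hzy ▸ z.2, y.2⟩) (V ⊓ W).2
  have hle : (V' : Set X) ⊆ V := fun a ha ↦ (hV'le ha).1
  have hle' : (V' : Set X) ⊆ W := fun a ha ↦ (hV'le ha).2
  have := quasiSeparatedSpace_of_isAffineOpen hW
  refine ⟨Set.inclusion hle' '' (Set.inclusion hle ⁻¹' C), ⟨(isConstructible_image_inclusion hle'
    hV'.isCompact (hC.preimage_of_isOpenEmbedding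
      (IsOpenEmbedding.inclusion hle (V'.2.preimage continuous_subtype_val)))).isLocallyConstructible,
    ?_⟩, ⟨⟨y.1, hyV'⟩, ?_, rfl⟩⟩
  · rintro _ ⟨a, ha, rfl⟩
    exact hCE ⟨_, ha, rfl⟩
  · change (⟨y.1, hle hyV'⟩ : (V : Set X)) ∈ C
    convert hz using 1
    exact Subtype.ext hzy.symm

/-- An ind-constructible set meets affine opens in unions of constructible sets. -/
theorem exists_constructible_nhd {E : Set X} (hE : ProCons.IsIndConstructible E) {W : X.Opens}
    (hW : IsAffineOpen W) {x : X} (hxW : x ∈ W) (hxE : x ∈ E) :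
    ∃ C : Set (W : Set X), IsConstructible C ∧ ⟨x, hxW⟩ ∈ C ∧ C ⊆ Subtype.val ⁻¹' E := by
  obtain ⟨U, hU, hxU, S, hS, he⟩ := hE x
  obtain ⟨T, hT, hxT⟩ : (⟨x, hxU⟩ : U) ∈ ⋃₀ S := he ▸ hxE
  obtain ⟨_, ⟨V, hV, rfl⟩, hxV, hVle⟩ := X.isBasis_affineOpens.exists_subset_of_mem_open
    (show x ∈ U ∩ (W : Set X) from ⟨hxU, hxW⟩) (hU.inter W.2)
  have hle : (V : Set X) ⊆ U := fun a ha ↦ (hVle ha).1
  have hle' : (V : Set X) ⊆ W := fun a ha ↦ (hVle ha).2
  have := quasiSeparatedSpace_of_isAffineOpen hW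
  have := quasiSeparatedSpace_of_isAffineOpen hV
  have := compactSpace_opens hV.isCompact
  have hT' : IsConstructible (Set.inclusion hle ⁻¹' T) :=
    ((hS T hT).preimage_of_isOpenEmbedding
      (IsOpenEmbedding.inclusion hle (V.2.preimage continuous_subtype_val))).isConstructible
  refine ⟨_, isConstructible_image_inclusion hle' hV.isCompact hT', ⟨⟨x, hxV⟩, hxT, rfl⟩, ?_⟩
  rintro _ ⟨a, ha, rfl⟩
  exact (he.ge ⟨T, hT, ha⟩ : Set.inclusion hle a ∈ Subtype.val ⁻¹' E)

/-- An ind-constructible set is open in the constructible topology of affine opens. -/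
theorem isOpen_cons_of_isIndConstructible {E : Set X} (hE : ProCons.IsIndConstructible E)
    {W : X.Opens} (hW : IsAffineOpen W) :
    IsOpen[constructibleTopology (W : Set X)] (Subtype.val ⁻¹' E) := by
  have := quasiSeparatedSpace_of_isAffineOpen hW
  refine (@isOpen_iff_forall_mem_open _ (constructibleTopology _) _).mpr fun x hx ↦ ?_
  obtain ⟨C, hC, hxC, hCE⟩ := exists_constructible_nhd hE hW x.2 hx
  exact ⟨C, hCE, isOpen_cons_of_isConstructible hC, hxC⟩

/-- A pro-constructible set is closed in the constructible topology of affine opens. -/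
theorem isClosed_cons_of_isProConstructible {E : Set X} (hE : ProCons.IsProConstructible E)
    {W : X.Opens} (hW : IsAffineOpen W) :
    IsClosed[constructibleTopology (W : Set X)] (Subtype.val ⁻¹' E) := by
  refine (@isOpen_compl_iff _ _ (constructibleTopology _)).mp ?_
  rw [← preimage_compl]
  exact isOpen_cons_of_isIndConstructible (isProConstructible_iff_compl.mp hE) hW

theorem isIndConstructible_of_forall_isOpen_cons {E : Set X}
    (h : ∀ x : X, ∃ W : X.Opens, IsAffineOpen W ∧ x ∈ W ∧
      IsOpen[constructibleTopology (W : Set X)] (Subtype.val ⁻¹' E)) :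
    ProCons.IsIndConstructible E := by
  refine isIndConstructible_of_forall_nhd fun x hx ↦ ?_
  obtain ⟨W, hW, hxW, hWE⟩ := h x
  have := quasiSeparatedSpace_of_isAffineOpen hW
  have := compactSpace_opens hW.isCompact
  obtain ⟨C, hC, hxC, hCE⟩ := exists_isConstructible_subset hWE (x := ⟨x, hxW⟩) hx
  exact ⟨W, hW, C, hC, ⟨_, hxC, rfl⟩, image_subset_iff.mpr hCE⟩

theorem isProConstructible_of_forall_isClosed_cons {E : Set X}
    (h : ∀ x : X, ∃ W : X.Opens, IsAffineOpen W ∧ x ∈ W ∧
      IsClosed[constructibleTopology (W : Set X)] (Subtype.val ⁻¹' E)) :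
    ProCons.IsProConstructible E := by
  refine isProConstructible_iff_compl.mpr (isIndConstructible_of_forall_isOpen_cons fun x ↦ ?_)
  obtain ⟨W, hW, hxW, hWE⟩ := h x
  refine ⟨W, hW, hxW, ?_⟩
  rw [preimage_compl]
  exact (@isOpen_compl_iff _ _ (constructibleTopology _)).mpr hWE

/-- EGA IV 1.9.11. -/
theorem isLocallyConstructible_iff_ind_and_pro {E : Set X} :
    IsLocallyConstructible E ↔ ProCons.IsIndConstructible E ∧ ProCons.IsProConstructible E := by
  constructor
  · intro h
    constructor <;> intro x <;>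
      refine ⟨univ, isOpen_univ, trivial, {Subtype.val ⁻¹' E}, ?_, by simp⟩ <;>
      rintro _ rfl <;>
      exact h.preimage_of_isOpenEmbedding isOpen_univ.isOpenEmbedding_subtypeVal
  · rintro ⟨hi, hp⟩
    refine .of_isOpenCover (U := fun V : X.affineOpens ↦ V.1) (iSup_affineOpens_eq_top X)
      fun V ↦ ?_
    have := quasiSeparatedSpace_of_isAffineOpen V.2
    have := compactSpace_opens V.2.isCompact
    exact (isConstructible_iff_clopen_cons.mpr ⟨isOpen_cons_of_isIndConstructible hi V.2,
      isClosed_cons_of_isProConstructible hp V.2⟩).isLocallyConstructible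

/-- The inverse image of an ind-constructible set is ind-constructible. -/
theorem isIndConstructible_preimage {Y : Scheme.{u}} (f : X ⟶ Y) {E : Set Y}
    (hE : ProCons.IsIndConstructible E) : ProCons.IsIndConstructible (f ⁻¹' E) := by
  refine isIndConstructible_of_forall_nhd fun x hx ↦ ?_
  obtain ⟨_, ⟨W, hW, rfl⟩, hxW, -⟩ :=
    Y.isBasis_affineOpens.exists_subset_of_mem_open (mem_univ (f x)) isOpen_univ
  obtain ⟨_, ⟨V, hV, rfl⟩, hxV, hVW⟩ := X.isBasis_affineOpens.exists_subset_of_mem_open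
    (show x ∈ ((f ⁻¹ᵁ W : X.Opens) : Set X) from hxW) (f ⁻¹ᵁ W).2
  obtain ⟨C, hC, hxC, hCE⟩ := exists_constructible_nhd hE hW hxW hx
  let g : (V : Scheme) ⟶ W := f.resLE W V hVW
  let g' : ↥(V : Set X) → ↥(W : Set Y) := fun a ↦ ⟨f a.1, hVW a.2⟩
  have hg : g' = fun a : (V : Set X) ↦ (g a : (W : Set Y)) := funext fun a ↦
    Subtype.ext (Scheme.Hom.coe_resLE_apply f hVW a).symm
  refine ⟨V, hV, g' ⁻¹' C, ?_, ⟨⟨x, hxV⟩, hxC, rfl⟩, ?_⟩
  · rw [hg]
    exact g.isConstructible_preimage hC
  · rintro _ ⟨a, ha, rfl⟩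
    exact hCE ha

/-- The inverse image of a pro-constructible set is pro-constructible. -/
theorem isProConstructible_preimage {Y : Scheme.{u}} (f : X ⟶ Y) {E : Set Y}
    (hE : ProCons.IsProConstructible E) : ProCons.IsProConstructible (f ⁻¹' E) := by
  rw [isProConstructible_iff_compl, ← preimage_compl]
  exact isIndConstructible_preimage f (isProConstructible_iff_compl.mp hE)

end Groth.Agent.H8ProCons
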