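import Mathlib.AlgebraicGeometry.Properties
import Mathlib.Topology.Sober

/-!
# Maximal points
-/

universe u

open AlgebraicGeometry Topology Set

namespace Groth.Agent.H8ProCons

/-- The generic point of an irreducible component is maximal. -/
lemma eq_genericPoint_of_specializes {X : Type*} [TopologicalSpace X] [QuasiSober X] [T0Space X]
    {Z : Set X} (hZ : Z ∈ irreducibleComponents X) {z : X}
    (h : z ⤳ hZ.1.genericPoint) : z = hZ.1.genericPoint := by
  have hg := hZ.1.isGenericPoint_genericPoint (isClosed_of_mem_irreducibleComponents _ hZ)
  have hle : Z ⊆ closure {z} := hg.def ▸ specializes_iff_closure_subset.mp h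
  have : closure {z} ⊆ Z := hZ.2 isIrreducible_singleton.closure hle
  exact (show IsGenericPoint z Z from subset_antisymm this hle).eq hg

/-- Every point of a scheme is a specialization of a maximal point. -/
theorem exists_maximal_specializes {X : Scheme.{u}} (x : X) :
    ∃ x' : X, x' ⤳ x ∧ ∀ z : X, z ⤳ x' → z = x' := by
  have hZ := irreducibleComponent_mem_irreducibleComponents x
  refine ⟨hZ.1.genericPoint, (hZ.1.isGenericPoint_genericPoint
    (isClosed_of_mem_irreducibleComponents _ hZ)).specializes mem_irreducibleComponent,
    fun z hz ↦ eq_genericPoint_of_specializes hZ hz⟩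

end Groth.Agent.H8ProCons
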