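import Mathlib.Topology.Compactness.LocallyCompact
import Mathlib.Topology.Connected.Separation
import Mathlib.Topology.Separation.Hausdorff
import Groth.Agent.H8ProCons.Basic

/-!
# The constructible topology of a quasi-separated scheme

EGA IV 1.9.13-1.9.15.
-/

universe u

open CategoryTheory AlgebraicGeometry Topology TopologicalSpace Set

namespace Groth.Agent.H8ProCons

variable {X : Scheme.{u}} [QuasiSeparatedSpace X]

/-- A compact open subset is compact for the constructible topology. -/
theorem isCompact_cons_of_isCompact {U : Set X} (hU : IsOpen U) (hUc : IsCompact U) :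
    @IsCompact X (constructibleTopology X) U := by
  let V : X.Opens := ⟨U, hU⟩
  have := compactSpace_opens (V := V) hUc
  have : QuasiSeparatedSpace ↥(V : Set X) := (isQuasiSeparated_iff_quasiSeparatedSpace _ V.2).mp
    (IsQuasiSeparated.of_quasiSeparatedSpace _)
  have hcont : @Continuous _ _ (constructibleTopology ↥(V : Set X)) (constructibleTopology X)
      Subtype.val :=
    continuous_cons continuous_subtype_val fun W hW hWc ↦ by
      rw [hU.isOpenEmbedding_subtypeVal.isEmbedding.isCompact_iff]
      convert QuasiSeparatedSpace.inter_isCompact _ _ hU hUc hW hWc using 1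
      exact Subtype.image_preimage_coe _ _
  have h := @IsCompact.image _ _ (constructibleTopology _) (constructibleTopology X) univ _
    (isCompact_cons (@isClosed_univ _ (constructibleTopology ↥(V : Set X)))) hcont
  rwa [image_univ, Subtype.range_coe] at h

omit [QuasiSeparatedSpace X] in
theorem isCompact_of_isCompact_cons {K : Set X} (hK : @IsCompact X (constructibleTopology X) K) :
    IsCompact K := by
  have hid : @Continuous X X (constructibleTopology X) _ id :=
    continuous_def.mpr fun W hW ↦ isOpen_cons_of_isOpen hW
  simpa using @IsCompact.image X X (constructibleTopology X) _ K id hK hid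

theorem t2_wlc_td : T2Space (WithConstructibleTopology X) ∧
    LocallyCompactSpace (WithConstructibleTopology X) ∧
      TotallyDisconnectedSpace (WithConstructibleTopology X) := by
  have hto := WithTopology.continuous_toTopology (constructibleTopology X)
  have hof := WithTopology.continuous_ofTopology (constructibleTopology X)
  have h2 : T2Space (WithConstructibleTopology X) := @T2Space.of_injective_continuous _ X _
    (constructibleTopology X) t2Space_cons _ (WithTopology.ofTopology_injective _) hof
  have hw : WeaklyLocallyCompactSpace (WithConstructibleTopology X) := ⟨fun x ↦ by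
    obtain ⟨U, ⟨hU, hUc⟩, hxU, -⟩ := PrespectralSpace.isTopologicalBasis.exists_subset_of_mem_open
      (mem_univ (WithTopology.ofTopology x)) isOpen_univ
    refine ⟨WithTopology.toTopology _ '' U,
      @IsCompact.image X (WithConstructibleTopology X) (constructibleTopology X) _ U _
        (isCompact_cons_of_isCompact hU hUc) hto, ?_⟩
    refine IsOpen.mem_nhds ?_ ⟨_, hxU, WithTopology.toTopology_ofTopology _ _⟩
    rw [WithConstructibleTopology.isOpen_iff,
      preimage_image_eq _ (WithTopology.toTopology_injective _)]
    exact hUc.isOpen_constructibleTopology_of_isOpen hU⟩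
  have : TotallySeparatedSpace (WithConstructibleTopology X) := by
    refine totallySeparatedSpace_iff_exists_isClopen.mpr fun x y hxy ↦ ?_
    obtain ⟨U, hU, hU', hx, hy⟩ := exists_clopen_separating
      ((WithTopology.ofTopology_injective _).ne hxy)
    exact ⟨WithTopology.ofTopology ⁻¹' U, ⟨⟨WithConstructibleTopology.isOpen_iff.mpr hU'⟩,
      WithConstructibleTopology.isOpen_iff.mpr hU⟩, hx, hy⟩
  exact ⟨h2, WeaklyLocallyCompactSpace.locallyCompactSpace, inferInstance⟩

/-- EGA IV 1.9.14. -/
theorem quasiCompact_iff_isProperMap {Y : Scheme.{u}} [QuasiSeparatedSpace Y] (f : X ⟶ Y) :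
    QuasiCompact f ↔ @IsProperMap X Y (constructibleTopology X) (constructibleTopology Y) f := by
  have hT2 : @T2Space Y (constructibleTopology Y) := t2Space_cons
  have hT2X : @T2Space X (constructibleTopology X) := t2Space_cons
  have hcg : @WeaklyLocallyCompactSpace Y (constructibleTopology Y) :=
    @WeaklyLocallyCompactSpace.mk Y (constructibleTopology Y) fun y ↦ by
      obtain ⟨U, ⟨hU, hUc⟩, hyU, -⟩ := PrespectralSpace.isTopologicalBasis.exists_subset_of_mem_open
        (mem_univ y) isOpen_univ
      exact ⟨U, isCompact_cons_of_isCompact hU hUc,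
        @IsOpen.mem_nhds Y (constructibleTopology Y) y U (hUc.isOpen_constructibleTopology_of_isOpen hU) hyU⟩
  constructor
  · intro hf
    have hcont := continuous_cons f.continuous fun U hU hUc ↦ hf.isCompact_preimage U hU hUc
    refine (@isProperMap_iff_isCompact_preimage X Y (constructibleTopology X)
      (constructibleTopology Y) hT2 ?_ f).mpr ⟨hcont, fun K hK ↦ ?_⟩
    · exact @CompactlyCoherentSpace.of_weaklyLocallyCompactSpace Y (constructibleTopology Y) hcg
    have hKc : IsClosed[constructibleTopology Y] K :=
      @IsCompact.isClosed Y (constructibleTopology Y) hT2 K hK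
    obtain ⟨σ, hσ⟩ := (isCompact_of_isCompact_cons hK).elim_finite_subcover
      (fun U : {U : Set Y // IsOpen U ∧ IsCompact U} ↦ U.1) (fun U ↦ U.2.1) fun y _ ↦ by
        obtain ⟨U, hU, hyU, -⟩ := PrespectralSpace.isTopologicalBasis.exists_subset_of_mem_open
          (mem_univ y) isOpen_univ
        exact mem_iUnion.mpr ⟨⟨U, hU⟩, hyU⟩
    refine @IsCompact.of_isClosed_subset X (constructibleTopology X) (⋃ U ∈ σ, f ⁻¹' U.1) _
      (@Finset.isCompact_biUnion X _ (constructibleTopology X) σ _ fun U _ ↦
        isCompact_cons_of_isCompact (U.2.1.preimage f.continuous)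
          (hf.isCompact_preimage U.1 U.2.1 U.2.2))
      (@IsClosed.preimage X Y (constructibleTopology X) (constructibleTopology Y) _ hcont _ hKc) ?_
    intro x hx
    simpa using hσ hx
  · exact fun h ↦ ⟨fun U hU hUc ↦ isCompact_of_isCompact_cons
      (@IsProperMap.isCompact_preimage X Y (constructibleTopology X) (constructibleTopology Y) f h U
        (isCompact_cons_of_isCompact hU hUc))⟩

end Groth.Agent.H8ProCons
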